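import Groth.Prelude.Def_SGA1t
import Groth.Agent.Stk19b.Boot.Locus
import Mathlib.AlgebraicGeometry.AffineSpace
import Mathlib.AlgebraicGeometry.Morphisms.Etale

/-!
# Affine charts of a relative strict normal crossings divisor
-/

set_option autoImplicit false
set_option linter.style.haveILetI false
set_option backward.isDefEq.respectTransparency false
set_option backward.isDefEq.respectTransparency.types false

universe u

open CategoryTheory CategoryTheory.Limits AlgebraicGeometry

namespace Groth.Agent.Kummer10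

variable {X S : Scheme.{u}}

theorem eval₂Hom_etale_of_affine {T U : Scheme.{u}} [IsAffine T] [IsAffine U] {σ : Type u} (p : U ⟶ T)
    (w : σ → Γ(U, ⊤)) [Etale (AffineSpace.homOfVector p w)] :
    (MvPolynomial.eval₂Hom p.appTop.hom w).Etale := by
  let h := AffineSpace.homOfVector p w
  have h1 : Etale (h ≫ (AffineSpace.isoOfIsAffine σ T).hom) := inferInstance
  rw [HasRingHomProperty.iff_of_isAffine (P := @Etale), Scheme.Hom.comp_appTop,
    AffineSpace.isoOfIsAffine_hom_appTop] at h1
  have heq : (Scheme.ΓSpecIso (CommRingCat.of (MvPolynomial σ Γ(T, ⊤)))).inv ≫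
      ((Scheme.ΓSpecIso _).hom ≫ CommRingCat.ofHom (MvPolynomial.eval₂Hom ((𝔸(σ; T) ↘ T).appTop).hom (AffineSpace.coord T))) ≫
        h.appTop = CommRingCat.ofHom (MvPolynomial.eval₂Hom p.appTop.hom w) := by
    rw [Category.assoc, Iso.inv_hom_id_assoc]
    ext1
    refine MvPolynomial.ringHom_ext (fun r => ?_) fun i => ?_
    · simp only [CommRingCat.hom_comp, CommRingCat.hom_ofHom, RingHom.comp_apply, MvPolynomial.eval₂Hom_C]
      rw [← CommRingCat.comp_apply, ← Scheme.Hom.comp_appTop, AffineSpace.homOfVector_over]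
    · simp only [CommRingCat.hom_comp, CommRingCat.hom_ofHom, RingHom.comp_apply, MvPolynomial.eval₂Hom_X']
      exact AffineSpace.homOfVector_appTop_coord _ _ _
  have h2 := RingHom.Etale.respectsIso.2 _
    ((Scheme.ΓSpecIso (CommRingCat.of (MvPolynomial σ Γ(T, ⊤)))).symm.commRingCatIsoToRingEquiv) h1
  rw [show MvPolynomial.eval₂Hom p.appTop.hom w = _ from (congrArg CommRingCat.Hom.hom heq).symm]
  exact h2

/-- An affine chart of a relative normal crossings divisor at a point of the divisor. -/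
theorem exists_chart (f : X ⟶ S) {r : ℕ} (φ : Fin r → Γ(X, ⊤)) (hD : SGA1t.IsRelSNC f φ) (x : X)
    (hx : Nonempty (SGA1t.vanishingAt φ x)) :
    ∃ (V : S.Opens) (_ : IsAffineOpen V) (U : X.Opens) (_ : IsAffineOpen U) (_ : x ∈ U) (le : U ≤ f ⁻¹ᵁ V)
      (σ : Type u) (v : σ → Γ(X, U)) (e : SGA1t.vanishingAt φ x → σ), Function.Injective e ∧
      (MvPolynomial.eval₂Hom (f.appLE V U le).hom v).Etale ∧
      ∀ i, v (e i) = X.presheaf.map (homOfLE le_top).op (φ i.1) := by
  obtain ⟨W, hxW, d, v, e, he, het, hv⟩ := hD x hx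
  obtain ⟨V, hV, hxV, -⟩ := exists_isAffineOpen_mem_and_subset (x := f x) (U := ⊤) trivial
  obtain ⟨U, hU, hxU, hUW⟩ := exists_isAffineOpen_mem_and_subset (x := x) (U := W ⊓ f ⁻¹ᵁ V) ⟨hxW, hxV⟩
  have hUW' : U ≤ W := fun z hz => (hUW hz).1
  have le : U ≤ f ⁻¹ᵁ V := fun z hz => (hUW hz).2
  let g := AffineSpace.homOfVector (W.ι ≫ f) v
  let w : ULift.{u} (Fin d) → Γ(U, ⊤) := fun s => (X.homOfLE hUW').appTop (v s)
  let h := AffineSpace.homOfVector (f.resLE V U le) w
  haveI : IsAffine U.toScheme := hU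
  haveI : IsAffine V.toScheme := hV
  haveI := Stk19b.Boot.isOpenImmersion_affineSpaceMap (ULift.{u} (Fin d)) V.ι
  have hh : h ≫ AffineSpace.map _ V.ι = X.homOfLE hUW' ≫ g := by
    apply AffineSpace.hom_ext
    · simp [h, g]
    · intro i
      simp [h, g, w]
  haveI : Etale h := by
    haveI : Etale g := het
    haveI : Etale (h ≫ AffineSpace.map _ V.ι) := by rw [hh]; infer_instance
    exact Etale.of_comp h (AffineSpace.map _ V.ι)
  have h1 := eval₂Hom_etale_of_affine (f.resLE V U le) w
  let eV := V.topIso.commRingCatIsoToRingEquiv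
  let eU := U.topIso.commRingCatIsoToRingEquiv
  refine ⟨V, hV, U, hU, hxU, le, ULift.{u} (Fin d), fun s => U.topIso.hom (w s), fun i => ULift.up (e i),
    fun i j hij => he (congrArg ULift.down hij), ?_, fun i => ?_⟩
  · have heq : MvPolynomial.eval₂Hom (f.appLE V U le).hom (fun s => U.topIso.hom (w s)) =
        eU.toRingHom.comp ((MvPolynomial.eval₂Hom (f.resLE V U le).appTop.hom w).comp
          (MvPolynomial.mapEquiv (ULift.{u} (Fin d)) eV.symm).toRingHom) := by
      refine MvPolynomial.ringHom_ext (fun r => ?_) fun s => ?_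
      · simp only [RingHom.comp_apply, MvPolynomial.eval₂Hom_C, RingEquiv.toRingHom_eq_coe, RingHom.coe_coe,
          MvPolynomial.mapEquiv_apply, MvPolynomial.map_C]
        show (f.appLE V U le) r = U.topIso.hom ((f.resLE V U le).appTop (V.topIso.inv r))
        rw [Scheme.Hom.appTop, Scheme.Hom.resLE_app_top]
        simp only [CommRingCat.comp_apply, Iso.inv_hom_id_apply]
      · simp [eU]
    rw [heq]
    exact RingHom.Etale.respectsIso.1 _ eU (RingHom.Etale.respectsIso.2 _ _ h1)
  · show U.topIso.hom ((X.homOfLE hUW').appTop (v (ULift.up (e i)))) = _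
    rw [hv i]
    simp [Scheme.Hom.appTop, ← CommRingCat.comp_apply, ← Functor.map_comp]
    rfl

end Groth.Agent.Kummer10
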