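import Groth.Prelude.Def_SGA1t
import Mathlib.RingTheory.Etale.Basic
import Mathlib.RingTheory.Smooth.Basic

/-!
# Kummer extensions along coordinates are formally smooth
-/

set_option autoImplicit false
set_option linter.style.haveILetI false
set_option backward.isDefEq.respectTransparency false

universe u

namespace Groth.Agent.Kummer10

open MvPolynomial

variable {R A : Type u} [CommRing R] [CommRing A] [Algebra R A]

/-- If `A` is formally étale over the polynomial ring in the coordinates `v`, the Kummer extension extracting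
roots of distinct coordinates is formally smooth over the base, whatever the exponents are. -/
theorem formallySmooth_kummer {σ : Type u} (v : σ → A)
    (hv : letI := (aeval v : MvPolynomial σ R →ₐ[R] A).toRingHom.toAlgebra
      Algebra.FormallyEtale (MvPolynomial σ R) A)
    {ι : Type} (e : ι → σ) (he : Function.Injective e) (n : ι → ℕ) (a : ι → A) (ha : ∀ i, a i = v (e i)) :
    Algebra.FormallySmooth R (SGA1t.kummer A a n) := by
  classical
  letI algA : Algebra (MvPolynomial σ R) A := (aeval v : MvPolynomial σ R →ₐ[R] A).toRingHom.toAlgebra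
  haveI : Algebra.FormallyEtale (MvPolynomial σ R) A := hv
  refine Algebra.FormallySmooth.of_comp_surjective fun C _ _ I hI g => ?_
  let K := SGA1t.kummer A a n
  let q := Ideal.Quotient.mk I
  choose c hc using fun i => Ideal.Quotient.mk_surjective (g (Ideal.Quotient.mk _ (X i)))
  choose b₀ hb₀ using fun s => Ideal.Quotient.mk_surjective (g (algebraMap A K (v s)))
  let b : σ → C := fun s => if h : ∃ i, e i = s then c h.choose ^ n h.choose else b₀ s
  have hbe : ∀ i, b (e i) = c i ^ n i := fun i => by
    have h : ∃ j, e j = e i := ⟨i, rfl⟩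
    simp only [b, dif_pos h, he h.choose_spec]
  have hb : ∀ s, q (b s) = g (algebraMap A K (v s)) := fun s => by
    by_cases h : ∃ i, e i = s
    · obtain ⟨i, rfl⟩ := h
      rw [hbe, map_pow, hc, ← map_pow, ← map_pow, ← ha]
      refine congrArg g ?_
      rw [← sub_eq_zero]
      show Ideal.Quotient.mk _ (X i ^ n i) - Ideal.Quotient.mk _ (MvPolynomial.C (a i)) = 0
      rw [← map_sub, Ideal.Quotient.eq_zero_iff_mem]
      exact Ideal.subset_span ⟨i, rfl⟩
    · simp only [b, dif_neg h]
      exact hb₀ s
  let ρ : MvPolynomial σ R →ₐ[R] C := aeval b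
  letI algC : Algebra (MvPolynomial σ R) C := ρ.toRingHom.toAlgebra
  have hcomp : ∀ p : MvPolynomial σ R, g (algebraMap A K (aeval v p)) = q (ρ p) := by
    intro p
    have h : ((g.comp ((IsScalarTower.toAlgHom R A K).comp (aeval v))) : MvPolynomial σ R →ₐ[R] C ⧸ I) =
        (Ideal.Quotient.mkₐ R I).comp ρ := algHom_ext fun s => by simp [ρ, K, ← hb, q]
    exact DFunLike.congr_fun h p
  let φ : A →ₐ[MvPolynomial σ R] C ⧸ I :=
    { g.toRingHom.comp (algebraMap A K) with commutes' := hcomp }
  obtain ⟨χ, hχ⟩ := (Algebra.FormallyEtale.comp_bijective (MvPolynomial σ R) A I hI).2 φ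
  have hχR : ∀ r : R, χ (algebraMap R A r) = algebraMap R C r := fun r => by
    have h := χ.commutes (MvPolynomial.C r)
    rw [show algebraMap (MvPolynomial σ R) A (MvPolynomial.C r) = algebraMap R A r from aeval_C v r,
      show algebraMap (MvPolynomial σ R) C (MvPolynomial.C r) = algebraMap R C r from aeval_C b r] at h
    exact h
  have hχe : ∀ i, χ (a i) = c i ^ n i := fun i => by
    have h := χ.commutes (X (e i))
    rw [show algebraMap (MvPolynomial σ R) A (X (e i)) = v (e i) from aeval_X v _,
      show algebraMap (MvPolynomial σ R) C (X (e i)) = b (e i) from aeval_X b _, hbe] at h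
    rw [ha]
    exact h
  let ψ₀ : MvPolynomial ι A →+* C := eval₂Hom χ.toRingHom c
  have hψ₀ : ∀ p ∈ Ideal.span (Set.range fun i => (X i : MvPolynomial ι A) ^ n i - MvPolynomial.C (a i)), ψ₀ p = 0 := by
    intro p hp
    refine (Ideal.span_le.2 ?_ : _ ≤ RingHom.ker ψ₀) hp
    rintro _ ⟨i, rfl⟩
    show ψ₀ _ = 0
    simp [ψ₀, hχe]
  let ψ : K →+* C := Ideal.Quotient.lift _ ψ₀ hψ₀
  have hψA : ∀ x : A, ψ (algebraMap A K x) = χ x := fun x => eval₂Hom_C _ _ x
  refine ⟨{ ψ with
    commutes' := fun r => ?_ }, ?_⟩
  · rw [IsScalarTower.algebraMap_apply R A K]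
    exact (hψA _).trans (hχR r)
  · refine AlgHom.ext fun y => ?_
    obtain ⟨p, rfl⟩ := Ideal.Quotient.mk_surjective y
    have h : q.comp ψ₀ = g.toRingHom.comp (Ideal.Quotient.mk _) := ringHom_ext
      (fun x => (congrArg q (eval₂Hom_C _ _ x)).trans (DFunLike.congr_fun hχ x))
      fun i => (congrArg q (eval₂Hom_X' _ _ i)).trans (hc i)
    exact RingHom.congr_fun h p

end Groth.Agent.Kummer10
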