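import Groth.Prelude.Def_SGA1t
import Groth.Agent.FlatMorWeight.GeomPoints
import Groth.Agent.TameKum.GaloisPoint
import Groth.Agent.TameKum.GaloisTame
import Groth.Agent.Misc15.StalkLoc
import Mathlib.FieldTheory.Galois.Basic
import Mathlib.FieldTheory.IsAlgClosed.AlgebraicClosure

/-!
# Group actions transitive on geometric fibres: residue extensions, and their tameness
-/

set_option autoImplicit false
set_option linter.style.haveILetI false
set_option maxHeartbeats 1000000
set_option backward.isDefEq.respectTransparency.types false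
set_option backward.isDefEq.respectTransparency false

universe u

open CategoryTheory CategoryTheory.Limits AlgebraicGeometry

namespace Groth.Agent.Kummer10

open TameKum (exists_hom_of_image exists_hom_of_apply)

/-- The residue field extension under a group action transitive on geometric fibres is Galois, of degree dividing the group order. -/
theorem isGalois_residueField {X W : Scheme.{u}} (q : W ⟶ X) [LocallyQuasiFinite q] [FormallyUnramified q]
    [LocallyOfFiniteType q] (G : Type) [Group G] [Finite G] (ρ : G →* Aut W) (hρ : ∀ g, (ρ g).hom ≫ q = q)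
    (htrans : ∀ (Ω : Type u) [Field Ω] [IsAlgClosed Ω] (s t : Spec (CommRingCat.of Ω) ⟶ W),
      s ≫ q = t ≫ q → ∃ g : G, s ≫ (ρ g).hom = t)
    (z : W) :
    letI : Algebra (X.residueField (q z)) (W.residueField z) := (q.residueFieldMap z).hom.toAlgebra
    FiniteDimensional (X.residueField (q z)) (W.residueField z) ∧
      IsGalois (X.residueField (q z)) (W.residueField z) ∧
      Module.finrank (X.residueField (q z)) (W.residueField z) ∣ Nat.card G := by
  classical
  let K := X.residueField (q z)
  let L := W.residueField z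
  letI : Algebra K L := (q.residueFieldMap z).hom.toAlgebra
  haveI : FiniteDimensional K L := FlatMorWeight.residueFieldMap_finite q z
  haveI : Algebra.IsSeparable K L :=
    FormallyUnramified.instIsSeparableCarrierResidueFieldCoeContinuousMapCarrierCarrierCommRingCatHomTopCatBaseOfLocallyOfFiniteType q z
  let Ω := AlgebraicClosure L
  let fz : Spec L ⟶ W := W.fromSpecResidueField z
  have hfz : ∀ g : L ⟶ CommRingCat.of Ω, (Spec.map g ≫ fz) (IsLocalRing.closedPoint Ω) = z := fun g => by
    rw [Scheme.Hom.comp_apply]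
    exact Scheme.fromSpecResidueField_apply z _
  have hover : ∀ g : L ⟶ CommRingCat.of Ω, (Spec.map g ≫ fz) ≫ q =
      Spec.map (q.residueFieldMap z ≫ g) ≫ X.fromSpecResidueField (q z) := fun g => by
    rw [Category.assoc, show fz ≫ q = Spec.map (q.residueFieldMap z) ≫ X.fromSpecResidueField (q z) from
      (Scheme.Hom.SpecMap_residueFieldMap_fromSpecResidueField q z).symm, ← Category.assoc, ← Spec.map_comp]
  let ξ : Spec (CommRingCat.of Ω) ⟶ X :=
    (Spec.map (CommRingCat.ofHom (algebraMap L Ω)) ≫ fz) ≫ q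
  let pt : (L →ₐ[K] Ω) → {t : Spec (CommRingCat.of Ω) ⟶ W // t ≫ q = ξ} := fun τ =>
    ⟨Spec.map (CommRingCat.ofHom τ.toRingHom) ≫ fz, by
      show (Spec.map (CommRingCat.ofHom τ.toRingHom) ≫ fz) ≫ q =
        (Spec.map (CommRingCat.ofHom (algebraMap L Ω)) ≫ fz) ≫ q
      rw [hover, hover]
      congr 2
      ext a
      exact τ.commutes a⟩
  have hback : ∀ (t : {t : Spec (CommRingCat.of Ω) ⟶ W // t ≫ q = ξ}), t.1 (IsLocalRing.closedPoint Ω) = z → ∃ τ, pt τ = t := by
    intro t ht
    obtain ⟨g, hg⟩ := exists_hom_of_image t.1 ht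
    have h1 : (Spec.map g ≫ fz) ≫ q =
        (Spec.map (CommRingCat.ofHom (algebraMap L Ω)) ≫ fz) ≫ q := hg ▸ t.2
    rw [hover, hover, cancel_mono, Spec.map_inj] at h1
    exact ⟨{ toRingHom := g.hom, commutes' := fun a => congr($(h1).hom a) }, Subtype.ext hg.symm⟩
  have hptinj : Function.Injective pt := fun τ τ' h => by
    have h1 : Spec.map (CommRingCat.ofHom τ.toRingHom) ≫ fz = Spec.map (CommRingCat.ofHom τ'.toRingHom) ≫ fz :=
      congrArg Subtype.val h
    rw [cancel_mono, Spec.map_inj] at h1
    exact AlgHom.ext fun a => congr($(h1).hom a)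
  letI : MulAction G {t : Spec (CommRingCat.of Ω) ⟶ W // t ≫ q = ξ} :=
    { smul := fun g t => ⟨t.1 ≫ (ρ g).hom, by rw [Category.assoc, hρ, t.2]⟩
      one_smul := fun t => Subtype.ext (show t.1 ≫ (ρ 1).hom = t.1 by rw [map_one]; exact Category.comp_id _)
      mul_smul := fun g g' t => Subtype.ext (show t.1 ≫ (ρ (g * g')).hom = (t.1 ≫ (ρ g').hom) ≫ (ρ g).hom by
        rw [map_mul, Category.assoc]; rfl) }
  letI : MulAction G W :=
    { smul := fun g w => (ρ g).hom w
      one_smul := fun w => show (ρ 1).hom w = w by rw [map_one]; rfl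
      mul_smul := fun g g' w => show (ρ (g * g')).hom w = (ρ g).hom ((ρ g').hom w) by
        rw [map_mul]; exact Scheme.Hom.comp_apply (ρ g').hom (ρ g).hom w }
  have himg : ∀ (g : G) (t : {t : Spec (CommRingCat.of Ω) ⟶ W // t ≫ q = ξ}), (g • t).1 (IsLocalRing.closedPoint Ω) =
      g • t.1 (IsLocalRing.closedPoint Ω) := fun g t => Scheme.Hom.comp_apply t.1 (ρ g).hom _
  let H := MulAction.stabilizer G z
  let τ₀ : L →ₐ[K] Ω := IsScalarTower.toAlgHom K L Ω
  have horb : MulAction.orbit H (pt τ₀) = Set.range pt := by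
    ext t
    constructor
    · rintro ⟨⟨σ, hσ⟩, rfl⟩
      refine hback (σ • pt τ₀) ?_
      rw [himg, show (pt τ₀).1 (IsLocalRing.closedPoint Ω) = z from hfz _]
      exact hσ
    · rintro ⟨τ, rfl⟩
      obtain ⟨σ, hσ⟩ := htrans Ω (pt τ₀).1 (pt τ).1 ((pt τ₀).2.trans (pt τ).2.symm)
      have hσ' : σ • pt τ₀ = pt τ := Subtype.ext hσ
      have hσz : σ ∈ H := by
        show σ • z = z
        have := himg σ (pt τ₀)
        rw [hσ', show (pt τ).1 (IsLocalRing.closedPoint Ω) = z from hfz _,
          show (pt τ₀).1 (IsLocalRing.closedPoint Ω) = z from hfz _] at this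
        exact this.symm
      exact ⟨⟨σ, hσz⟩, hσ'⟩
  have hnorm : ∀ τ : L →ₐ[K] Ω, ∃ g : L →ₐ[K] L, τ = τ₀.comp g := by
    intro τ
    obtain ⟨⟨σ, hσ⟩, hσ'⟩ : pt τ ∈ MulAction.orbit H (pt τ₀) := horb ▸ ⟨τ, rfl⟩
    obtain ⟨g, hg⟩ := exists_hom_of_apply (ρ σ).hom z (hσ : (ρ σ).hom z = z)
    change fz ≫ (ρ σ).hom = Spec.map g ≫ fz at hg
    have hw : (ρ σ).hom ≫ q = q := hρ σ
    have hz : fz ≫ q = Spec.map (q.residueFieldMap z) ≫ X.fromSpecResidueField (q z) :=
      (Scheme.Hom.SpecMap_residueFieldMap_fromSpecResidueField q z).symm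
    have h2 : Spec.map (q.residueFieldMap z ≫ g) = Spec.map (q.residueFieldMap z) := by
      rw [← cancel_mono (X.fromSpecResidueField (q z)), Spec.map_comp, Category.assoc,
        ← hz, ← Category.assoc, ← hg, Category.assoc, hw]
    rw [Spec.map_inj] at h2
    let g' : L →ₐ[K] L := { toRingHom := g.hom, commutes' := fun a => congr($(h2).hom a) }
    refine ⟨g', hptinj (Subtype.ext ?_)⟩
    rw [← hσ']
    show (Spec.map (CommRingCat.ofHom (algebraMap L Ω)) ≫ fz) ≫ (ρ σ).hom =
      Spec.map (g ≫ CommRingCat.ofHom (algebraMap L Ω)) ≫ fz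
    rw [Category.assoc, hg, Spec.map_comp, Category.assoc]
  have hcard : Nat.card (L →ₐ[K] Ω) = Module.finrank K L :=
    AlgHom.natCard_of_splits K L Ω fun _ => IsAlgClosed.splits _
  have hgal : IsGalois K L := by
    refine IsGalois.of_card_aut_eq_finrank K L (hcard ▸ ?_)
    rw [Nat.card_congr (algEquivEquivAlgHom K L).toEquiv]
    refine Nat.card_congr (Equiv.ofBijective (fun g : L →ₐ[K] L => τ₀.comp g) ⟨fun a b h => AlgHom.ext fun x => ?_,
      fun τ => (hnorm τ).imp fun g hg => hg.symm⟩)
    exact (algebraMap L Ω).injective congr($h x)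
  refine ⟨inferInstance, hgal, ?_⟩
  have h1 : (MulAction.orbit H (pt τ₀)).ncard = Module.finrank K L := by
    rw [horb, Set.ncard_range_of_injective hptinj, hcard]
  rw [← h1, ← MulAction.index_stabilizer]
  exact (Subgroup.index_dvd_card _).trans (Subgroup.card_subgroup_dvd_card H)

/-- The residue field at a proper generization of a point with discrete valuation local ring is the
fraction field of that ring. -/
theorem isFractionRing_residueField {X : Scheme.{u}} {z y : X} (h : z ⤳ y) (hne : z ≠ y)
    [IsDomain (X.presheaf.stalk y)] (hy : IsDiscreteValuationRing (X.presheaf.stalk y)) :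
    letI := ((X.residue z).hom.comp (X.presheaf.stalkSpecializes h).hom).toAlgebra
    IsFractionRing (X.presheaf.stalk y) (X.residueField z) := by
  let sp := X.presheaf.stalkSpecializes h
  letI : Algebra (X.presheaf.stalk y) (X.presheaf.stalk z) := sp.hom.toAlgebra
  haveI := Misc15.isLocalization_stalkSpecializes h
  obtain ⟨π, hπ⟩ := IsDiscreteValuationRing.exists_irreducible (X.presheaf.stalk y)
  let M := (IsUnit.submonoid (X.presheaf.stalk z)).comap sp.hom
  have hπu : IsUnit (sp π) := by
    by_contra hπu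
    have hM : M ≤ IsUnit.submonoid (X.presheaf.stalk y) := by
      intro a ha
      have ha' : IsUnit (sp a) := ha
      rcases eq_or_ne a 0 with rfl | ha0
      · rw [map_zero] at ha'
        exact absurd ha' not_isUnit_zero
      obtain ⟨k, u, rfl⟩ := IsDiscreteValuationRing.eq_unit_mul_pow_irreducible ha0 hπ
      rcases Nat.eq_zero_or_pos k with rfl | hk
      · rw [pow_zero, mul_one]; exact u.isUnit
      · exfalso
        refine hπu ?_
        rw [map_mul, IsUnit.mul_iff, map_pow, isUnit_pow_iff hk.ne'] at ha'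
        exact ha'.2
    let e := IsLocalization.atUnits (X.presheaf.stalk y) M (S := X.presheaf.stalk z) hM
    haveI : IsIso sp := (ConcreteCategory.isIso_iff_bijective _).2
      (by convert e.bijective using 1; funext a; exact (e.commutes a).symm)
    haveI : IsLocalHom sp.hom := ⟨fun a ha => by
      simpa [← CommRingCat.comp_apply] using ha.map (inv sp).hom⟩
    refine hne ?_
    have h1 := congrArg (fun g : Spec (X.presheaf.stalk z) ⟶ X => g (IsLocalRing.closedPoint _))
      (Scheme.SpecMap_stalkSpecializes_fromSpecStalk h)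
    simp only [Scheme.Hom.comp_apply] at h1
    rw [show (Spec.map sp) (IsLocalRing.closedPoint (X.presheaf.stalk z)) = IsLocalRing.closedPoint _ from
      IsLocalRing.comap_closedPoint sp.hom, Scheme.fromSpecStalk_closedPoint, Scheme.fromSpecStalk_closedPoint] at h1
    exact h1.symm
  have hMeq : M = nonZeroDivisors (X.presheaf.stalk y) := by
    ext a
    rw [mem_nonZeroDivisors_iff_ne_zero]
    constructor
    · intro ha h0
      have ha' : IsUnit (sp a) := ha
      rw [h0, map_zero] at ha'
      exact not_isUnit_zero ha'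
    · intro ha0
      obtain ⟨k, u, rfl⟩ := IsDiscreteValuationRing.eq_unit_mul_pow_irreducible ha0 hπ
      show IsUnit (sp ((u : X.presheaf.stalk y) * π ^ k))
      rw [map_mul, map_pow]
      exact (u.isUnit.map sp.hom).mul (hπu.pow k)
  haveI hfr : IsFractionRing (X.presheaf.stalk y) (X.presheaf.stalk z) := by
    show IsLocalization (nonZeroDivisors (X.presheaf.stalk y)) _
    rw [← hMeq]
    infer_instance
  haveI : IsLocalHom (X.residue z).hom := inferInstanceAs (IsLocalHom (IsLocalRing.residue (X.presheaf.stalk z)))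
  have hb : Function.Bijective (X.residue z).hom := by
    refine ⟨(injective_iff_map_eq_zero _).2 fun a ha => by_contra fun ha0 => ?_, X.residue_surjective z⟩
    obtain ⟨r, s, rfl⟩ := IsLocalization.exists_mk'_eq (nonZeroDivisors (X.presheaf.stalk y)) a
    have hr : r ≠ 0 := fun h0 => ha0 (by rw [h0]; exact IsLocalization.mk'_zero s)
    have hu : IsUnit (algebraMap (X.presheaf.stalk y) (X.presheaf.stalk z) r) :=
      IsLocalization.map_units _ (⟨r, mem_nonZeroDivisors_of_ne_zero hr⟩ : nonZeroDivisors (X.presheaf.stalk y))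
    rw [← IsLocalization.mk'_spec (X.presheaf.stalk z) r s, IsUnit.mul_iff] at hu
    exact not_isUnit_zero (ha ▸ hu.1.map (X.residue z).hom)
  letI := ((X.residue z).hom.comp sp.hom).toAlgebra
  let e' : X.presheaf.stalk z ≃ₐ[X.presheaf.stalk y] X.residueField z :=
    AlgEquiv.ofBijective { (X.residue z).hom with commutes' := fun _ => rfl } hb
  exact IsLocalization.isLocalization_of_algEquiv (nonZeroDivisors _) e'

end Groth.Agent.Kummer10
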